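import Cfsg.Agent.Lib.InvChar.CosetCert

/-! Coset enumeration certificate J3X8 for a presented sporadic group. -/

set_option autoImplicit false
set_option maxRecDepth 100000

namespace CfsgLib.InvChar.Coset.J3X8

/-- facts -/
noncomputable def facts : Tr := (.leaf 0xaf0000000009f0001500008f0001400007f0001b00006f0001a00005f0001900004f0001800024300028000032000260000ef0002500002f0002100001f000200000d3000220001410001b0000010001500028200027000273000030002630002500025200024000240000230002320000d00022200021000214000200002030001f0001f20001e0001e00001d0001d20001c0001c3000000001b00001a0001a1000190001900001800018200017000173000160001640000e00015000014000142000130001330001200012400011000110000100001010000f0000f00000e0000e10000d0000d40000c0000c30000b0000b2000010000a100009000090000080000810000700007000006000061000050000500000400004400003000031000020000240000100001000000)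
/-- justifications -/
noncomputable def just : Tr := (.leaf 0xa0000d40002400010030000001400034000080000000c000000a4000cc0001c00010030000001a00032000060000000c00000064000c40001400010030000001800030000040000000c0000005c0005800054000b400090000bc0009c000980000d030d00800100027000260002e00025000240001c00800c00094000b400034000a800084000b00000801090020050002400023000220000d4001800c00400080000ac0000400040030000001f0001e0001d0001c0001b000004002001400400084000800007c0007800074000700006c00000000280002c00030070e0070040001a00019000180001700016000150000d0000c0000b0000a00000000280001402c3002c008000500004c0004800044000400003c0003800034000300002c00028000000c0b00c000)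
/-- relators -/
def rels : List (List ℕ) := [[0, 0], [1, 1], [2, 2], [3, 3], [4, 4], [1, 0, 1, 0, 1, 0, 1, 0], [2, 0, 2, 1], [3, 2, 3, 2, 3, 2], [3, 2, 0, 2, 3, 0], [3, 2, 1, 2, 3, 1], [0, 2, 3, 4, 0, 2, 3, 4, 0, 2, 3, 4], [0, 2, 3, 4, 1, 0, 1, 0, 4, 3, 2, 0, 1], [0, 2, 3, 4, 1, 4, 3, 2, 0, 1, 0, 1, 0, 1], [2, 3, 4, 2, 3, 4, 2, 3], [3, 2, 0, 2, 3, 4, 2, 3, 4, 3, 2, 0], [0, 2, 3, 4, 2, 0, 2, 3, 4, 2, 0, 2, 3, 4, 2, 0, 2, 3, 4, 2, 0, 2, 3, 4, 2, 0, 2, 3, 4, 2, 0, 2, 3, 4, 2, 0, 2, 3, 4, 2, 0, 2, 3, 4, 2, 0, 2, 3, 4, 2]]
/-- subgroup words -/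
def subs : List (List ℕ) := []
/-- the letters, as letters of the whole group -/
def emb : List ℕ := [3, 4, 6, 7, 8]
/-- certificate -/
noncomputable def cert : Cert := ⟨5, 55, 40, facts, just, rels, subs⟩

end CfsgLib.InvChar.Coset.J3X8
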